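import Mathlib

set_option autoImplicit false

/-!
Sparse rows of nine generating transpositions in degree seventy-eight over the field with thirteen elements.
-/

namespace Cfsg.Agent.FiSeventyEight

/-- rows of the generator a -/
def row_a : List (List (ℕ × ℕ)) := [
  [(0, 1)],
  [(1, 12)],
  [(2, 12)],
  [(3, 12)],
  [(4, 12)],
  [(5, 12)],
  [(6, 12)],
  [(7, 12)],
  [(8, 12)],
  [(9, 12)],
  [(10, 12)],
  [(11, 12)],
  [(12, 12)],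
  [(13, 12)],
  [(14, 12)],
  [(15, 12)],
  [(16, 12)],
  [(17, 12)],
  [(18, 12)],
  [(19, 12)],
  [(20, 12)],
  [(21, 12)],
  [(22, 12)],
  [(23, 12)],
  [(24, 12)],
  [(25, 12)],
  [(26, 12)],
  [(27, 12)],
  [(28, 12)],
  [(29, 1)],
  [(30, 1)],
  [(31, 1)],
  [(32, 1)],
  [(33, 1)],
  [(34, 1)],
  [(35, 1)],
  [(36, 1)],
  [(37, 1)],
  [(38, 1)],
  [(39, 1)],
  [(40, 1)],
  [(41, 12)],
  [(42, 12)],
  [(43, 12)],
  [(44, 12)],
  [(45, 12)],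
  [(46, 12)],
  [(47, 12)],
  [(48, 12)],
  [(49, 12)],
  [(50, 12)],
  [(51, 12)],
  [(52, 12)],
  [(53, 1)],
  [(54, 1)],
  [(55, 1)],
  [(56, 1)],
  [(57, 12)],
  [(58, 12)],
  [(59, 12)],
  [(60, 12)],
  [(61, 12)],
  [(62, 12)],
  [(63, 12)],
  [(64, 12)],
  [(65, 12)],
  [(66, 12)],
  [(67, 12)],
  [(68, 12)],
  [(69, 1)],
  [(70, 1)],
  [(71, 1)],
  [(72, 1)],
  [(73, 12)],
  [(74, 12)],
  [(75, 12)],
  [(76, 12)],
  [(77, 1)]]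

/-- rows of the generator b -/
def row_b : List (List (ℕ × ℕ)) := [
  [(0, 6), (24, 3)],
  [(1, 3), (8, 10), (16, 3), (31, 10), (33, 3), (36, 3), (42, 3), (47, 3), (48, 10), (54, 10), (59, 10), (61, 3), (64, 10), (71, 3), (74, 3), (77, 3)],
  [(2, 6), (35, 7), (41, 7), (60, 7)],
  [(3, 6), (15, 7), (32, 7), (73, 7)],
  [(4, 6), (6, 6), (29, 6), (75, 7)],
  [(5, 6), (18, 7), (53, 6), (58, 6)],
  [(4, 6), (6, 6), (29, 7), (75, 6)],
  [(7, 6), (14, 7), (43, 7), (69, 7)],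
  [(1, 10), (8, 3), (16, 3), (31, 3), (33, 10), (36, 3), (42, 3), (47, 10), (48, 3), (54, 10), (59, 3), (61, 10), (64, 10), (71, 3), (74, 3), (77, 3)],
  [(9, 6), (34, 6), (45, 7), (65, 6)],
  [(10, 6), (13, 6), (49, 7), (70, 6)],
  [(11, 6), (19, 7), (55, 6), (63, 6)],
  [(12, 6), (37, 7), (46, 7), (62, 7)],
  [(10, 6), (13, 6), (49, 6), (70, 7)],
  [(7, 7), (14, 6), (43, 7), (69, 7)],
  [(3, 7), (15, 6), (32, 7), (73, 7)],
  [(1, 3), (8, 3), (16, 3), (31, 3), (33, 3), (36, 3), (42, 3), (47, 3), (48, 3), (54, 3), (59, 10), (61, 10), (64, 10), (71, 10), (74, 10), (77, 10)],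
  [(17, 6), (30, 7), (44, 6), (57, 6)],
  [(5, 7), (18, 6), (53, 6), (58, 6)],
  [(11, 7), (19, 6), (55, 6), (63, 6)],
  [(20, 6), (26, 7), (50, 7), (72, 7)],
  [(21, 6), (38, 6), (52, 7), (68, 6)],
  [(22, 6), (23, 6), (56, 7), (66, 6)],
  [(22, 6), (23, 6), (56, 6), (66, 7)],
  [(0, 10), (24, 7)],
  [(25, 6), (28, 7), (40, 7), (76, 7)],
  [(20, 7), (26, 6), (50, 7), (72, 7)],
  [(27, 6), (39, 7), (51, 6), (67, 6)],
  [(25, 7), (28, 6), (40, 7), (76, 7)],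
  [(4, 6), (6, 7), (29, 6), (75, 6)],
  [(17, 7), (30, 6), (44, 6), (57, 6)],
  [(1, 10), (8, 3), (16, 3), (31, 3), (33, 10), (36, 3), (42, 10), (47, 3), (48, 10), (54, 3), (59, 10), (61, 3), (64, 3), (71, 10), (74, 3), (77, 3)],
  [(3, 7), (15, 7), (32, 6), (73, 7)],
  [(1, 3), (8, 10), (16, 3), (31, 10), (33, 3), (36, 3), (42, 10), (47, 10), (48, 3), (54, 3), (59, 3), (61, 10), (64, 3), (71, 10), (74, 3), (77, 3)],
  [(9, 6), (34, 6), (45, 6), (65, 7)],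
  [(2, 7), (35, 6), (41, 7), (60, 7)],
  [(1, 3), (8, 3), (16, 3), (31, 3), (33, 3), (36, 3), (42, 10), (47, 10), (48, 10), (54, 10), (59, 3), (61, 3), (64, 3), (71, 3), (74, 10), (77, 10)],
  [(12, 7), (37, 6), (46, 7), (62, 7)],
  [(21, 6), (38, 6), (52, 6), (68, 7)],
  [(27, 7), (39, 6), (51, 6), (67, 6)],
  [(25, 7), (28, 7), (40, 6), (76, 7)],
  [(2, 7), (35, 7), (41, 6), (60, 7)],
  [(1, 3), (8, 3), (16, 3), (31, 10), (33, 10), (36, 10), (42, 3), (47, 3), (48, 3), (54, 10), (59, 3), (61, 3), (64, 3), (71, 10), (74, 3), (77, 10)],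
  [(7, 7), (14, 7), (43, 6), (69, 7)],
  [(17, 6), (30, 6), (44, 6), (57, 7)],
  [(9, 7), (34, 6), (45, 6), (65, 6)],
  [(12, 7), (37, 7), (46, 6), (62, 7)],
  [(1, 3), (8, 10), (16, 3), (31, 3), (33, 10), (36, 10), (42, 3), (47, 3), (48, 10), (54, 3), (59, 3), (61, 10), (64, 3), (71, 3), (74, 10), (77, 3)],
  [(1, 10), (8, 3), (16, 3), (31, 10), (33, 3), (36, 10), (42, 3), (47, 10), (48, 3), (54, 3), (59, 10), (61, 3), (64, 3), (71, 3), (74, 10), (77, 3)],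
  [(10, 7), (13, 6), (49, 6), (70, 6)],
  [(20, 7), (26, 7), (50, 6), (72, 7)],
  [(27, 6), (39, 6), (51, 6), (67, 7)],
  [(21, 7), (38, 6), (52, 6), (68, 6)],
  [(5, 6), (18, 6), (53, 6), (58, 7)],
  [(1, 10), (8, 10), (16, 3), (31, 3), (33, 3), (36, 10), (42, 10), (47, 3), (48, 3), (54, 3), (59, 3), (61, 3), (64, 10), (71, 3), (74, 3), (77, 10)],
  [(11, 6), (19, 6), (55, 6), (63, 7)],
  [(22, 7), (23, 6), (56, 6), (66, 6)],
  [(17, 6), (30, 6), (44, 7), (57, 6)],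
  [(5, 6), (18, 6), (53, 7), (58, 6)],
  [(1, 10), (8, 3), (16, 10), (31, 10), (33, 3), (36, 3), (42, 3), (47, 3), (48, 10), (54, 3), (59, 3), (61, 10), (64, 3), (71, 3), (74, 3), (77, 10)],
  [(2, 7), (35, 7), (41, 7), (60, 6)],
  [(1, 3), (8, 10), (16, 10), (31, 3), (33, 10), (36, 3), (42, 3), (47, 10), (48, 3), (54, 3), (59, 10), (61, 3), (64, 3), (71, 3), (74, 3), (77, 10)],
  [(12, 7), (37, 7), (46, 7), (62, 6)],
  [(11, 6), (19, 6), (55, 7), (63, 6)],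
  [(1, 10), (8, 10), (16, 10), (31, 3), (33, 3), (36, 3), (42, 3), (47, 3), (48, 3), (54, 10), (59, 3), (61, 3), (64, 3), (71, 10), (74, 10), (77, 3)],
  [(9, 6), (34, 7), (45, 6), (65, 6)],
  [(22, 6), (23, 7), (56, 6), (66, 6)],
  [(27, 6), (39, 6), (51, 7), (67, 6)],
  [(21, 6), (38, 7), (52, 6), (68, 6)],
  [(7, 7), (14, 7), (43, 7), (69, 6)],
  [(10, 6), (13, 7), (49, 6), (70, 6)],
  [(1, 3), (8, 3), (16, 10), (31, 10), (33, 10), (36, 3), (42, 10), (47, 3), (48, 3), (54, 3), (59, 3), (61, 3), (64, 10), (71, 3), (74, 10), (77, 3)],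
  [(20, 7), (26, 7), (50, 7), (72, 6)],
  [(3, 7), (15, 7), (32, 7), (73, 6)],
  [(1, 3), (8, 3), (16, 10), (31, 3), (33, 3), (36, 10), (42, 3), (47, 10), (48, 10), (54, 3), (59, 3), (61, 3), (64, 10), (71, 10), (74, 3), (77, 3)],
  [(4, 7), (6, 6), (29, 6), (75, 6)],
  [(25, 7), (28, 7), (40, 7), (76, 6)],
  [(1, 3), (8, 3), (16, 10), (31, 3), (33, 3), (36, 10), (42, 10), (47, 3), (48, 3), (54, 10), (59, 10), (61, 10), (64, 3), (71, 3), (74, 3), (77, 3)]]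

/-- rows of the generator c -/
def row_c : List (List (ℕ × ℕ)) := [
  [(0, 1)],
  [(1, 1)],
  [(2, 1)],
  [(3, 12)],
  [(4, 12)],
  [(5, 12)],
  [(6, 12)],
  [(7, 12)],
  [(8, 1)],
  [(9, 1)],
  [(10, 12)],
  [(11, 12)],
  [(12, 1)],
  [(13, 12)],
  [(14, 12)],
  [(15, 12)],
  [(16, 1)],
  [(17, 1)],
  [(18, 12)],
  [(19, 12)],
  [(20, 12)],
  [(21, 1)],
  [(22, 12)],
  [(23, 12)],
  [(24, 12)],
  [(25, 12)],
  [(26, 12)],
  [(27, 1)],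
  [(28, 12)],
  [(29, 1)],
  [(30, 12)],
  [(31, 12)],
  [(32, 1)],
  [(33, 12)],
  [(34, 12)],
  [(35, 12)],
  [(36, 12)],
  [(37, 12)],
  [(38, 12)],
  [(39, 12)],
  [(40, 1)],
  [(41, 12)],
  [(42, 12)],
  [(43, 1)],
  [(44, 12)],
  [(45, 12)],
  [(46, 12)],
  [(47, 12)],
  [(48, 12)],
  [(49, 1)],
  [(50, 1)],
  [(51, 12)],
  [(52, 12)],
  [(53, 12)],
  [(54, 1)],
  [(55, 12)],
  [(56, 12)],
  [(57, 12)],
  [(58, 1)],
  [(59, 12)],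
  [(60, 12)],
  [(61, 12)],
  [(62, 12)],
  [(63, 1)],
  [(64, 12)],
  [(65, 12)],
  [(66, 1)],
  [(67, 12)],
  [(68, 12)],
  [(69, 12)],
  [(70, 12)],
  [(71, 1)],
  [(72, 12)],
  [(73, 12)],
  [(74, 1)],
  [(75, 12)],
  [(76, 12)],
  [(77, 12)]]

/-- rows of the generator d -/
def row_d : List (List (ℕ × ℕ)) := [
  [(0, 6), (39, 10)],
  [(1, 6), (10, 6), (48, 6), (57, 6)],
  [(2, 6), (7, 6), (11, 6), (75, 6)],
  [(3, 3), (8, 10), (9, 10), (13, 3), (17, 3), (18, 10), (44, 3), (46, 3), (47, 10), (49, 3), (58, 10), (62, 3), (64, 10), (65, 10), (73, 3), (74, 10)],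
  [(4, 6), (19, 7), (43, 7), (60, 6)],
  [(5, 6), (16, 7), (45, 7), (61, 6)],
  [(6, 6), (14, 6), (41, 7), (63, 7)],
  [(2, 6), (7, 6), (11, 7), (75, 7)],
  [(3, 10), (8, 3), (9, 3), (13, 10), (17, 10), (18, 3), (44, 3), (46, 3), (47, 10), (49, 3), (58, 10), (62, 3), (64, 10), (65, 10), (73, 10), (74, 3)],
  [(3, 10), (8, 3), (9, 3), (13, 10), (17, 3), (18, 10), (44, 3), (46, 3), (47, 3), (49, 10), (58, 3), (62, 10), (64, 10), (65, 10), (73, 3), (74, 10)],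
  [(1, 6), (10, 6), (48, 7), (57, 7)],
  [(2, 6), (7, 7), (11, 6), (75, 7)],
  [(12, 6), (15, 6), (42, 7), (59, 7)],
  [(3, 3), (8, 10), (9, 10), (13, 3), (17, 10), (18, 3), (44, 3), (46, 3), (47, 3), (49, 10), (58, 3), (62, 10), (64, 10), (65, 10), (73, 10), (74, 3)],
  [(6, 6), (14, 6), (41, 6), (63, 6)],
  [(12, 6), (15, 6), (42, 6), (59, 6)],
  [(5, 7), (16, 6), (45, 7), (61, 6)],
  [(3, 3), (8, 10), (9, 3), (13, 10), (17, 3), (18, 10), (44, 10), (46, 3), (47, 3), (49, 3), (58, 10), (62, 10), (64, 10), (65, 3), (73, 10), (74, 3)],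
  [(3, 10), (8, 3), (9, 10), (13, 3), (17, 10), (18, 3), (44, 10), (46, 3), (47, 3), (49, 3), (58, 10), (62, 10), (64, 10), (65, 3), (73, 3), (74, 10)],
  [(4, 7), (19, 6), (43, 7), (60, 6)],
  [(20, 6), (28, 7), (52, 7), (66, 6)],
  [(21, 6), (23, 6), (26, 7), (76, 7)],
  [(22, 6), (25, 7), (50, 7), (68, 6)],
  [(21, 6), (23, 6), (26, 6), (76, 6)],
  [(24, 6), (27, 6), (51, 7), (67, 7)],
  [(22, 7), (25, 6), (50, 7), (68, 6)],
  [(21, 7), (23, 6), (26, 6), (76, 7)],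
  [(24, 6), (27, 6), (51, 6), (67, 6)],
  [(20, 7), (28, 6), (52, 7), (66, 6)],
  [(29, 6), (35, 7), (55, 7), (69, 6)],
  [(30, 6), (36, 6), (54, 7), (70, 7)],
  [(31, 6), (32, 6), (37, 7), (77, 7)],
  [(31, 6), (32, 6), (37, 6), (77, 6)],
  [(33, 6), (34, 7), (53, 7), (71, 6)],
  [(33, 7), (34, 6), (53, 7), (71, 6)],
  [(29, 7), (35, 6), (55, 7), (69, 6)],
  [(30, 6), (36, 6), (54, 6), (70, 6)],
  [(31, 7), (32, 6), (37, 6), (77, 7)],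
  [(38, 6), (40, 6), (56, 6), (72, 6)],
  [(0, 3), (39, 7)],
  [(38, 6), (40, 6), (56, 7), (72, 7)],
  [(6, 7), (14, 6), (41, 6), (63, 7)],
  [(12, 7), (15, 6), (42, 6), (59, 7)],
  [(4, 7), (19, 7), (43, 6), (60, 6)],
  [(3, 3), (8, 3), (9, 3), (13, 3), (17, 10), (18, 10), (44, 3), (46, 3), (47, 10), (49, 10), (58, 10), (62, 10), (64, 3), (65, 3), (73, 10), (74, 10)],
  [(5, 7), (16, 7), (45, 6), (61, 6)],
  [(3, 3), (8, 3), (9, 3), (13, 3), (17, 3), (18, 3), (44, 3), (46, 3), (47, 3), (49, 3), (58, 3), (62, 3), (64, 3), (65, 3), (73, 3), (74, 3)],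
  [(3, 10), (8, 10), (9, 3), (13, 3), (17, 3), (18, 3), (44, 10), (46, 3), (47, 3), (49, 10), (58, 10), (62, 3), (64, 3), (65, 10), (73, 10), (74, 10)],
  [(1, 6), (10, 7), (48, 6), (57, 7)],
  [(3, 3), (8, 3), (9, 10), (13, 10), (17, 3), (18, 3), (44, 10), (46, 3), (47, 10), (49, 3), (58, 3), (62, 10), (64, 3), (65, 10), (73, 10), (74, 10)],
  [(22, 7), (25, 7), (50, 6), (68, 6)],
  [(24, 7), (27, 6), (51, 6), (67, 7)],
  [(20, 7), (28, 7), (52, 6), (66, 6)],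
  [(33, 7), (34, 7), (53, 6), (71, 6)],
  [(30, 7), (36, 6), (54, 6), (70, 7)],
  [(29, 7), (35, 7), (55, 6), (69, 6)],
  [(38, 6), (40, 7), (56, 6), (72, 7)],
  [(1, 6), (10, 7), (48, 7), (57, 6)],
  [(3, 10), (8, 10), (9, 3), (13, 3), (17, 10), (18, 10), (44, 10), (46, 3), (47, 10), (49, 3), (58, 3), (62, 10), (64, 3), (65, 10), (73, 3), (74, 3)],
  [(12, 7), (15, 6), (42, 7), (59, 6)],
  [(4, 6), (19, 6), (43, 6), (60, 6)],
  [(5, 6), (16, 6), (45, 6), (61, 6)],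
  [(3, 3), (8, 3), (9, 10), (13, 10), (17, 10), (18, 10), (44, 10), (46, 3), (47, 3), (49, 10), (58, 10), (62, 3), (64, 3), (65, 10), (73, 3), (74, 3)],
  [(6, 7), (14, 6), (41, 7), (63, 6)],
  [(3, 10), (8, 10), (9, 10), (13, 10), (17, 10), (18, 10), (44, 3), (46, 3), (47, 3), (49, 3), (58, 3), (62, 3), (64, 3), (65, 3), (73, 10), (74, 10)],
  [(3, 10), (8, 10), (9, 10), (13, 10), (17, 3), (18, 3), (44, 3), (46, 3), (47, 10), (49, 10), (58, 10), (62, 10), (64, 3), (65, 3), (73, 3), (74, 3)],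
  [(20, 6), (28, 6), (52, 6), (66, 6)],
  [(24, 7), (27, 6), (51, 7), (67, 6)],
  [(22, 6), (25, 6), (50, 6), (68, 6)],
  [(29, 6), (35, 6), (55, 6), (69, 6)],
  [(30, 7), (36, 6), (54, 7), (70, 6)],
  [(33, 6), (34, 6), (53, 6), (71, 6)],
  [(38, 6), (40, 7), (56, 7), (72, 6)],
  [(3, 3), (8, 10), (9, 3), (13, 10), (17, 10), (18, 3), (44, 10), (46, 3), (47, 10), (49, 10), (58, 3), (62, 3), (64, 10), (65, 3), (73, 3), (74, 10)],
  [(3, 10), (8, 3), (9, 10), (13, 3), (17, 3), (18, 10), (44, 10), (46, 3), (47, 10), (49, 10), (58, 3), (62, 3), (64, 10), (65, 3), (73, 10), (74, 3)],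
  [(2, 6), (7, 7), (11, 7), (75, 6)],
  [(21, 7), (23, 6), (26, 7), (76, 6)],
  [(31, 7), (32, 6), (37, 7), (77, 6)]]

/-- rows of the generator e -/
def row_e : List (List (ℕ × ℕ)) := [
  [(0, 1)],
  [(1, 12)],
  [(2, 12)],
  [(3, 12)],
  [(4, 12)],
  [(5, 12)],
  [(6, 12)],
  [(7, 12)],
  [(8, 12)],
  [(9, 1)],
  [(10, 1)],
  [(11, 1)],
  [(12, 1)],
  [(13, 1)],
  [(14, 12)],
  [(15, 12)],
  [(16, 12)],
  [(17, 12)],
  [(18, 12)],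
  [(19, 1)],
  [(20, 12)],
  [(21, 12)],
  [(22, 12)],
  [(23, 12)],
  [(24, 1)],
  [(25, 1)],
  [(26, 12)],
  [(27, 12)],
  [(28, 1)],
  [(29, 12)],
  [(30, 12)],
  [(31, 12)],
  [(32, 12)],
  [(33, 12)],
  [(34, 1)],
  [(35, 12)],
  [(36, 12)],
  [(37, 1)],
  [(38, 12)],
  [(39, 12)],
  [(40, 1)],
  [(41, 12)],
  [(42, 12)],
  [(43, 12)],
  [(44, 12)],
  [(45, 1)],
  [(46, 1)],
  [(47, 12)],
  [(48, 12)],
  [(49, 1)],
  [(50, 12)],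
  [(51, 12)],
  [(52, 12)],
  [(53, 12)],
  [(54, 12)],
  [(55, 1)],
  [(56, 12)],
  [(57, 12)],
  [(58, 12)],
  [(59, 12)],
  [(60, 12)],
  [(61, 12)],
  [(62, 1)],
  [(63, 1)],
  [(64, 12)],
  [(65, 1)],
  [(66, 12)],
  [(67, 12)],
  [(68, 12)],
  [(69, 12)],
  [(70, 1)],
  [(71, 12)],
  [(72, 12)],
  [(73, 12)],
  [(74, 12)],
  [(75, 12)],
  [(76, 1)],
  [(77, 12)]]

/-- rows of the generator f -/
def row_f : List (List (ℕ × ℕ)) := [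
  [(0, 6), (32, 10)],
  [(1, 6), (16, 7), (50, 6), (63, 7)],
  [(2, 6), (21, 6), (49, 6), (58, 6)],
  [(3, 6), (15, 7), (24, 6), (73, 7)],
  [(4, 3), (11, 10), (19, 3), (20, 10), (26, 3), (28, 10), (42, 3), (46, 10), (47, 10), (51, 10), (59, 10), (62, 3), (64, 3), (67, 3), (75, 3), (76, 10)],
  [(5, 6), (10, 6), (41, 7), (68, 7)],
  [(6, 6), (25, 6), (48, 6), (61, 6)],
  [(7, 6), (23, 6), (44, 7), (65, 7)],
  [(8, 6), (12, 6), (27, 7), (74, 7)],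
  [(9, 6), (17, 7), (43, 6), (66, 7)],
  [(5, 6), (10, 6), (41, 6), (68, 6)],
  [(4, 10), (11, 3), (19, 3), (20, 10), (26, 10), (28, 3), (42, 10), (46, 3), (47, 10), (51, 10), (59, 3), (62, 10), (64, 3), (67, 3), (75, 3), (76, 10)],
  [(8, 6), (12, 6), (27, 6), (74, 6)],
  [(13, 6), (18, 7), (52, 6), (60, 7)],
  [(14, 6), (22, 7), (45, 6), (57, 7)],
  [(3, 7), (15, 6), (24, 6), (73, 7)],
  [(1, 7), (16, 6), (50, 6), (63, 7)],
  [(9, 7), (17, 6), (43, 6), (66, 7)],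
  [(13, 7), (18, 6), (52, 6), (60, 7)],
  [(4, 3), (11, 3), (19, 3), (20, 10), (26, 10), (28, 10), (42, 10), (46, 10), (47, 10), (51, 3), (59, 3), (62, 3), (64, 3), (67, 10), (75, 10), (76, 3)],
  [(4, 10), (11, 10), (19, 10), (20, 3), (26, 3), (28, 3), (42, 10), (46, 10), (47, 10), (51, 3), (59, 3), (62, 3), (64, 3), (67, 10), (75, 3), (76, 10)],
  [(2, 6), (21, 6), (49, 7), (58, 7)],
  [(14, 7), (22, 6), (45, 6), (57, 7)],
  [(7, 6), (23, 6), (44, 6), (65, 6)],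
  [(3, 6), (15, 6), (24, 6), (73, 6)],
  [(6, 6), (25, 6), (48, 7), (61, 7)],
  [(4, 3), (11, 10), (19, 10), (20, 3), (26, 3), (28, 10), (42, 10), (46, 3), (47, 10), (51, 10), (59, 3), (62, 10), (64, 3), (67, 3), (75, 10), (76, 3)],
  [(8, 7), (12, 6), (27, 6), (74, 7)],
  [(4, 10), (11, 3), (19, 10), (20, 3), (26, 10), (28, 3), (42, 3), (46, 10), (47, 10), (51, 10), (59, 10), (62, 3), (64, 3), (67, 3), (75, 10), (76, 3)],
  [(29, 6), (40, 6), (54, 7), (71, 7)],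
  [(30, 6), (34, 6), (56, 6), (69, 6)],
  [(31, 6), (37, 7), (39, 6), (77, 7)],
  [(0, 3), (32, 7)],
  [(33, 6), (36, 7), (55, 6), (72, 7)],
  [(30, 6), (34, 6), (56, 7), (69, 7)],
  [(35, 6), (38, 7), (53, 6), (70, 7)],
  [(33, 7), (36, 6), (55, 6), (72, 7)],
  [(31, 7), (37, 6), (39, 6), (77, 7)],
  [(35, 7), (38, 6), (53, 6), (70, 7)],
  [(31, 6), (37, 6), (39, 6), (77, 6)],
  [(29, 6), (40, 6), (54, 6), (71, 6)],
  [(5, 7), (10, 6), (41, 6), (68, 7)],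
  [(4, 3), (11, 10), (19, 10), (20, 10), (26, 10), (28, 3), (42, 3), (46, 10), (47, 3), (51, 10), (59, 3), (62, 10), (64, 3), (67, 10), (75, 3), (76, 3)],
  [(9, 6), (17, 6), (43, 6), (66, 6)],
  [(7, 7), (23, 6), (44, 6), (65, 7)],
  [(14, 6), (22, 6), (45, 6), (57, 6)],
  [(4, 10), (11, 3), (19, 10), (20, 10), (26, 3), (28, 10), (42, 10), (46, 3), (47, 3), (51, 10), (59, 10), (62, 3), (64, 3), (67, 10), (75, 3), (76, 3)],
  [(4, 10), (11, 10), (19, 10), (20, 10), (26, 10), (28, 10), (42, 3), (46, 3), (47, 3), (51, 3), (59, 3), (62, 3), (64, 3), (67, 3), (75, 10), (76, 10)],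
  [(6, 6), (25, 7), (48, 6), (61, 7)],
  [(2, 6), (21, 7), (49, 6), (58, 7)],
  [(1, 6), (16, 6), (50, 6), (63, 6)],
  [(4, 10), (11, 10), (19, 3), (20, 3), (26, 10), (28, 10), (42, 10), (46, 10), (47, 3), (51, 3), (59, 10), (62, 10), (64, 3), (67, 3), (75, 3), (76, 3)],
  [(13, 6), (18, 6), (52, 6), (60, 6)],
  [(35, 6), (38, 6), (53, 6), (70, 6)],
  [(29, 7), (40, 6), (54, 6), (71, 7)],
  [(33, 6), (36, 6), (55, 6), (72, 6)],
  [(30, 6), (34, 7), (56, 6), (69, 7)],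
  [(14, 7), (22, 7), (45, 6), (57, 6)],
  [(2, 6), (21, 7), (49, 7), (58, 6)],
  [(4, 10), (11, 3), (19, 3), (20, 3), (26, 3), (28, 10), (42, 3), (46, 10), (47, 3), (51, 10), (59, 3), (62, 10), (64, 3), (67, 10), (75, 10), (76, 10)],
  [(13, 7), (18, 7), (52, 6), (60, 6)],
  [(6, 6), (25, 7), (48, 7), (61, 6)],
  [(4, 3), (11, 10), (19, 3), (20, 3), (26, 10), (28, 3), (42, 10), (46, 3), (47, 3), (51, 10), (59, 10), (62, 3), (64, 3), (67, 10), (75, 10), (76, 10)],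
  [(1, 7), (16, 7), (50, 6), (63, 6)],
  [(4, 3), (11, 3), (19, 3), (20, 3), (26, 3), (28, 3), (42, 3), (46, 3), (47, 3), (51, 3), (59, 3), (62, 3), (64, 3), (67, 3), (75, 3), (76, 3)],
  [(7, 7), (23, 6), (44, 7), (65, 6)],
  [(9, 7), (17, 7), (43, 6), (66, 6)],
  [(4, 3), (11, 3), (19, 10), (20, 10), (26, 3), (28, 3), (42, 10), (46, 10), (47, 3), (51, 3), (59, 10), (62, 10), (64, 3), (67, 3), (75, 10), (76, 10)],
  [(5, 7), (10, 6), (41, 7), (68, 6)],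
  [(30, 6), (34, 7), (56, 7), (69, 6)],
  [(35, 7), (38, 7), (53, 6), (70, 6)],
  [(29, 7), (40, 6), (54, 7), (71, 6)],
  [(33, 7), (36, 7), (55, 6), (72, 6)],
  [(3, 7), (15, 7), (24, 6), (73, 6)],
  [(8, 7), (12, 6), (27, 7), (74, 6)],
  [(4, 3), (11, 3), (19, 10), (20, 3), (26, 10), (28, 10), (42, 3), (46, 3), (47, 10), (51, 3), (59, 10), (62, 10), (64, 3), (67, 10), (75, 3), (76, 10)],
  [(4, 10), (11, 10), (19, 3), (20, 10), (26, 3), (28, 3), (42, 3), (46, 3), (47, 10), (51, 3), (59, 10), (62, 10), (64, 3), (67, 10), (75, 10), (76, 3)],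
  [(31, 7), (37, 7), (39, 6), (77, 6)]]

/-- rows of the generator g -/
def row_g : List (List (ℕ × ℕ)) := [
  [(0, 1)],
  [(1, 12)],
  [(2, 12)],
  [(3, 12)],
  [(4, 12)],
  [(5, 12)],
  [(6, 12)],
  [(7, 12)],
  [(8, 12)],
  [(9, 12)],
  [(10, 12)],
  [(11, 12)],
  [(12, 12)],
  [(13, 12)],
  [(14, 12)],
  [(15, 12)],
  [(16, 12)],
  [(17, 12)],
  [(18, 12)],
  [(19, 12)],
  [(20, 1)],
  [(21, 1)],
  [(22, 1)],
  [(23, 1)],
  [(24, 1)],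
  [(25, 1)],
  [(26, 1)],
  [(27, 1)],
  [(28, 1)],
  [(29, 12)],
  [(30, 12)],
  [(31, 12)],
  [(32, 12)],
  [(33, 12)],
  [(34, 12)],
  [(35, 12)],
  [(36, 12)],
  [(37, 12)],
  [(38, 1)],
  [(39, 1)],
  [(40, 1)],
  [(41, 12)],
  [(42, 12)],
  [(43, 12)],
  [(44, 12)],
  [(45, 12)],
  [(46, 12)],
  [(47, 12)],
  [(48, 12)],
  [(49, 12)],
  [(50, 1)],
  [(51, 1)],
  [(52, 1)],
  [(53, 12)],
  [(54, 12)],
  [(55, 12)],
  [(56, 1)],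
  [(57, 12)],
  [(58, 12)],
  [(59, 12)],
  [(60, 12)],
  [(61, 12)],
  [(62, 12)],
  [(63, 12)],
  [(64, 12)],
  [(65, 12)],
  [(66, 1)],
  [(67, 1)],
  [(68, 1)],
  [(69, 12)],
  [(70, 12)],
  [(71, 12)],
  [(72, 1)],
  [(73, 12)],
  [(74, 12)],
  [(75, 12)],
  [(76, 1)],
  [(77, 12)]]

/-- rows of the generator h -/
def row_h : List (List (ℕ × ℕ)) := [
  [(0, 1)],
  [(1, 12)],
  [(2, 12)],
  [(3, 1)],
  [(4, 12)],
  [(5, 12)],
  [(6, 12)],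
  [(7, 1)],
  [(8, 12)],
  [(9, 1)],
  [(10, 12)],
  [(11, 12)],
  [(12, 12)],
  [(13, 12)],
  [(14, 1)],
  [(15, 1)],
  [(16, 12)],
  [(17, 1)],
  [(18, 12)],
  [(19, 12)],
  [(20, 12)],
  [(21, 12)],
  [(22, 1)],
  [(23, 1)],
  [(24, 1)],
  [(25, 12)],
  [(26, 12)],
  [(27, 12)],
  [(28, 12)],
  [(29, 12)],
  [(30, 1)],
  [(31, 12)],
  [(32, 1)],
  [(33, 12)],
  [(34, 1)],
  [(35, 12)],
  [(36, 12)],
  [(37, 12)],
  [(38, 12)],
  [(39, 12)],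
  [(40, 12)],
  [(41, 12)],
  [(42, 12)],
  [(43, 1)],
  [(44, 1)],
  [(45, 1)],
  [(46, 12)],
  [(47, 12)],
  [(48, 12)],
  [(49, 12)],
  [(50, 12)],
  [(51, 12)],
  [(52, 12)],
  [(53, 12)],
  [(54, 12)],
  [(55, 12)],
  [(56, 1)],
  [(57, 1)],
  [(58, 12)],
  [(59, 12)],
  [(60, 12)],
  [(61, 12)],
  [(62, 12)],
  [(63, 12)],
  [(64, 12)],
  [(65, 1)],
  [(66, 1)],
  [(67, 12)],
  [(68, 12)],
  [(69, 1)],
  [(70, 12)],
  [(71, 12)],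
  [(72, 12)],
  [(73, 1)],
  [(74, 12)],
  [(75, 12)],
  [(76, 12)],
  [(77, 12)]]

/-- rows of the generator i -/
def row_i : List (List (ℕ × ℕ)) := [
  [(0, 6), (40, 3)],
  [(1, 6), (2, 7), (17, 7), (74, 7)],
  [(1, 7), (2, 6), (17, 7), (74, 7)],
  [(3, 6), (6, 7), (47, 6), (59, 6)],
  [(4, 3), (5, 3), (7, 10), (14, 3), (15, 3), (18, 10), (41, 3), (42, 3), (44, 10), (48, 10), (57, 3), (60, 10), (61, 10), (64, 3), (73, 3), (75, 3)],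
  [(4, 3), (5, 3), (7, 3), (14, 3), (15, 3), (18, 3), (41, 3), (42, 3), (44, 3), (48, 3), (57, 10), (60, 10), (61, 10), (64, 10), (73, 10), (75, 10)],
  [(3, 7), (6, 6), (47, 6), (59, 6)],
  [(4, 10), (5, 3), (7, 3), (14, 3), (15, 10), (18, 3), (41, 3), (42, 10), (44, 3), (48, 10), (57, 10), (60, 10), (61, 3), (64, 3), (73, 3), (75, 3)],
  [(8, 6), (16, 7), (43, 6), (58, 6)],
  [(9, 6), (12, 6), (49, 6), (63, 7)],
  [(10, 6), (11, 7), (46, 7), (65, 7)],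
  [(10, 7), (11, 6), (46, 7), (65, 7)],
  [(9, 6), (12, 6), (49, 7), (63, 6)],
  [(13, 6), (19, 6), (45, 7), (62, 6)],
  [(4, 3), (5, 3), (7, 3), (14, 3), (15, 3), (18, 3), (41, 10), (42, 10), (44, 10), (48, 10), (57, 3), (60, 3), (61, 3), (64, 3), (73, 10), (75, 10)],
  [(4, 3), (5, 3), (7, 10), (14, 3), (15, 3), (18, 10), (41, 10), (42, 10), (44, 3), (48, 3), (57, 10), (60, 3), (61, 3), (64, 10), (73, 3), (75, 3)],
  [(8, 7), (16, 6), (43, 6), (58, 6)],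
  [(1, 7), (2, 7), (17, 6), (74, 7)],
  [(4, 10), (5, 3), (7, 3), (14, 3), (15, 10), (18, 3), (41, 10), (42, 3), (44, 10), (48, 3), (57, 3), (60, 3), (61, 10), (64, 10), (73, 3), (75, 3)],
  [(13, 6), (19, 6), (45, 6), (62, 7)],
  [(20, 6), (23, 6), (51, 7), (68, 6)],
  [(21, 6), (27, 6), (50, 7), (66, 6)],
  [(22, 6), (26, 7), (52, 7), (67, 7)],
  [(20, 6), (23, 6), (51, 6), (68, 7)],
  [(24, 6), (25, 7), (28, 7), (76, 7)],
  [(24, 7), (25, 6), (28, 7), (76, 7)],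
  [(22, 7), (26, 6), (52, 7), (67, 7)],
  [(21, 6), (27, 6), (50, 6), (66, 7)],
  [(24, 7), (25, 7), (28, 6), (76, 7)],
  [(29, 6), (32, 7), (54, 7), (71, 7)],
  [(30, 6), (33, 6), (35, 7), (77, 6)],
  [(31, 6), (36, 7), (53, 7), (69, 7)],
  [(29, 7), (32, 6), (54, 7), (71, 7)],
  [(30, 6), (33, 6), (35, 6), (77, 7)],
  [(34, 6), (37, 7), (55, 6), (70, 6)],
  [(30, 7), (33, 6), (35, 6), (77, 6)],
  [(31, 7), (36, 6), (53, 7), (69, 7)],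
  [(34, 7), (37, 6), (55, 6), (70, 6)],
  [(38, 6), (39, 7), (56, 6), (72, 6)],
  [(38, 7), (39, 6), (56, 6), (72, 6)],
  [(0, 10), (40, 7)],
  [(4, 3), (5, 3), (7, 3), (14, 10), (15, 10), (18, 10), (41, 3), (42, 3), (44, 3), (48, 10), (57, 3), (60, 3), (61, 3), (64, 10), (73, 3), (75, 10)],
  [(4, 3), (5, 3), (7, 10), (14, 10), (15, 10), (18, 3), (41, 3), (42, 3), (44, 10), (48, 3), (57, 10), (60, 3), (61, 3), (64, 3), (73, 10), (75, 3)],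
  [(8, 6), (16, 6), (43, 6), (58, 7)],
  [(4, 10), (5, 3), (7, 3), (14, 10), (15, 3), (18, 10), (41, 3), (42, 10), (44, 3), (48, 3), (57, 3), (60, 3), (61, 10), (64, 3), (73, 10), (75, 3)],
  [(13, 7), (19, 6), (45, 6), (62, 6)],
  [(10, 7), (11, 7), (46, 6), (65, 7)],
  [(3, 6), (6, 6), (47, 6), (59, 7)],
  [(4, 10), (5, 3), (7, 10), (14, 10), (15, 3), (18, 3), (41, 10), (42, 3), (44, 3), (48, 3), (57, 3), (60, 10), (61, 3), (64, 3), (73, 3), (75, 10)],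
  [(9, 6), (12, 7), (49, 6), (63, 6)],
  [(21, 7), (27, 6), (50, 6), (66, 6)],
  [(20, 7), (23, 6), (51, 6), (68, 6)],
  [(22, 7), (26, 7), (52, 6), (67, 7)],
  [(31, 7), (36, 7), (53, 6), (69, 7)],
  [(29, 7), (32, 7), (54, 6), (71, 7)],
  [(34, 6), (37, 6), (55, 6), (70, 7)],
  [(38, 6), (39, 6), (56, 6), (72, 7)],
  [(4, 3), (5, 10), (7, 10), (14, 3), (15, 10), (18, 3), (41, 3), (42, 10), (44, 3), (48, 3), (57, 3), (60, 3), (61, 10), (64, 3), (73, 3), (75, 10)],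
  [(8, 6), (16, 6), (43, 7), (58, 6)],
  [(3, 6), (6, 6), (47, 7), (59, 6)],
  [(4, 10), (5, 10), (7, 10), (14, 3), (15, 3), (18, 3), (41, 3), (42, 3), (44, 3), (48, 10), (57, 3), (60, 3), (61, 3), (64, 10), (73, 10), (75, 3)],
  [(4, 10), (5, 10), (7, 3), (14, 3), (15, 3), (18, 10), (41, 3), (42, 3), (44, 10), (48, 3), (57, 10), (60, 3), (61, 3), (64, 3), (73, 3), (75, 10)],
  [(13, 6), (19, 7), (45, 6), (62, 6)],
  [(9, 7), (12, 6), (49, 6), (63, 6)],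
  [(4, 3), (5, 10), (7, 3), (14, 3), (15, 10), (18, 10), (41, 10), (42, 3), (44, 3), (48, 3), (57, 3), (60, 10), (61, 3), (64, 3), (73, 10), (75, 3)],
  [(10, 7), (11, 7), (46, 7), (65, 6)],
  [(21, 6), (27, 7), (50, 6), (66, 6)],
  [(22, 7), (26, 7), (52, 7), (67, 6)],
  [(20, 6), (23, 7), (51, 6), (68, 6)],
  [(31, 7), (36, 7), (53, 7), (69, 6)],
  [(34, 6), (37, 6), (55, 7), (70, 6)],
  [(29, 7), (32, 7), (54, 7), (71, 6)],
  [(38, 6), (39, 6), (56, 7), (72, 6)],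
  [(4, 3), (5, 10), (7, 3), (14, 10), (15, 3), (18, 3), (41, 3), (42, 10), (44, 10), (48, 3), (57, 3), (60, 10), (61, 3), (64, 10), (73, 3), (75, 3)],
  [(1, 7), (2, 7), (17, 7), (74, 6)],
  [(4, 3), (5, 10), (7, 3), (14, 10), (15, 3), (18, 3), (41, 10), (42, 3), (44, 3), (48, 10), (57, 10), (60, 3), (61, 10), (64, 3), (73, 3), (75, 3)],
  [(24, 7), (25, 7), (28, 7), (76, 6)],
  [(30, 6), (33, 7), (35, 6), (77, 6)]]

end Cfsg.Agent.FiSeventyEight
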