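import Mathlib

/-!
Products of sparse matrices over the field with thirteen elements, computed on rows packed into
natural numbers with lanes of thirty-two bits.
-/

set_option autoImplicit false

namespace Cfsg.Agent.FiSeventyEight

/-- Pack a vector into lanes of thirty-two bits. -/
def pk : (n : ℕ) → (Fin n → ℕ) → ℕ
  | 0, _ => 0
  | n + 1, w => w 0 + 2 ^ 32 * pk n (fun j => w j.succ)

theorem pk_add : ∀ (n : ℕ) (v w : Fin n → ℕ), pk n (v + w) = pk n v + pk n w
  | 0, _, _ => rfl
  | n + 1, v, w => by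
    have := pk_add n (fun j => v j.succ) (fun j => w j.succ)
    simp only [pk, Pi.add_apply]
    rw [show (fun j : Fin n => v j.succ + w j.succ) = (fun j => v j.succ) + (fun j => w j.succ) from rfl, this]
    ring

theorem pk_smul : ∀ (n a : ℕ) (v : Fin n → ℕ), pk n (fun j => a * v j) = a * pk n v
  | 0, _, _ => rfl
  | n + 1, a, v => by
    simp only [pk]
    rw [pk_smul n a]
    ring

theorem pk_zero : ∀ n : ℕ, pk n (fun _ => 0) = 0
  | 0 => rfl
  | n + 1 => by simp only [pk]; rw [pk_zero n]; rfl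

theorem pk_inj : ∀ (n : ℕ) (v w : Fin n → ℕ), (∀ j, v j < 2 ^ 32) → (∀ j, w j < 2 ^ 32) →
    pk n v = pk n w → v = w
  | 0, v, w, _, _, _ => funext fun j => j.elim0
  | n + 1, v, w, hv, hw, h => by
    simp only [pk] at h
    have a := hv 0
    have b := hw 0
    have h0 : v 0 = w 0 := by omega
    have h1 := pk_inj n _ _ (fun j => hv j.succ) (fun j => hw j.succ) (by omega)
    funext j
    refine Fin.cases h0 (fun i => congrFun h1 i) j

/-- The mask keeping ten bits in each lane. -/
def mask78 : ℕ := pk 78 (fun _ => 1023)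

/-- Reduction modulo thirteen in every lane. -/
def red (x : ℕ) : ℕ := x - 13 * Nat.land (Nat.shiftRight (x * 80660) 20) mask78

theorem and_split (a b c d : ℕ) (ha : a < 2 ^ 32) (hc : c < 2 ^ 32) :
    (a + 2 ^ 32 * b) &&& (c + 2 ^ 32 * d) = (a &&& c) + 2 ^ 32 * (b &&& d) := by
  conv_lhs => rw [← Nat.mod_add_div ((a + 2 ^ 32 * b) &&& (c + 2 ^ 32 * d)) (2 ^ 32)]
  rw [Nat.and_div_two_pow, Nat.and_mod_two_pow]
  rw [Nat.add_mul_mod_self_left, Nat.mod_eq_of_lt ha, Nat.add_mul_mod_self_left, Nat.mod_eq_of_lt hc,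
    Nat.add_mul_div_left _ _ (by norm_num : 0 < 2 ^ 32), Nat.div_eq_of_lt ha,
    Nat.add_mul_div_left _ _ (by norm_num : 0 < 2 ^ 32), Nat.div_eq_of_lt hc, zero_add, zero_add]

theorem barrett (a : ℕ) (h : a ≤ 11232) : a * 80660 / 2 ^ 20 = a / 13 := by
  have h1 := Nat.div_add_mod a 13
  have h2 := Nat.mod_lt a (show 13 > 0 by norm_num)
  generalize hq : a / 13 = q at h1
  generalize a % 13 = r at h1 h2
  subst h1
  apply Nat.div_eq_of_lt_le
  · omega
  · omega

theorem quot_eq : ∀ (n : ℕ) (w : Fin n → ℕ), (∀ j, w j ≤ 11232) →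
    ((pk n w * 80660) >>> 20) &&& pk n (fun _ => 1023) = pk n (fun j => w j / 13)
  | 0, _, _ => by simp [pk]
  | n + 1, w, hw => by
    simp only [pk]
    rw [← quot_eq n _ fun j => hw j.succ]
    generalize pk n (fun j => w j.succ) = R
    generalize pk n (fun _ => 1023) = M
    have h0 := hw 0
    have e : ((w 0 + 2 ^ 32 * R) * 80660) >>> 20 =
        (w 0 * 80660 / 2 ^ 20 + 2 ^ 12 * (R * 80660 % 2 ^ 20)) + 2 ^ 32 * ((R * 80660) >>> 20) := by
      rw [Nat.shiftRight_eq_div_pow, Nat.shiftRight_eq_div_pow]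
      omega
    have hlt : w 0 * 80660 / 2 ^ 20 + 2 ^ 12 * (R * 80660 % 2 ^ 20) < 2 ^ 32 := by omega
    rw [e, and_split _ _ _ _ hlt (by norm_num)]
    congr 1
    rw [show (1023 : ℕ) = 2 ^ 10 - 1 from rfl, Nat.and_two_pow_sub_one_eq_mod]
    have h13 := barrett (w 0) h0
    generalize R * 80660 % 2 ^ 20 = X
    omega

theorem red_pk (w : Fin 78 → ℕ) (hw : ∀ j, w j ≤ 11232) : red (pk 78 w) = pk 78 (fun j => w j % 13) := by
  have h := quot_eq 78 w hw
  show pk 78 w - 13 * (((pk 78 w * 80660) >>> 20) &&& mask78) = _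
  rw [mask78, h]
  have e : pk 78 w = 13 * pk 78 (fun j => w j / 13) + pk 78 (fun j => w j % 13) := by
    rw [← pk_smul, ← pk_add]
    congr 1
    funext j
    exact (Nat.div_add_mod (w j) 13).symm
  omega

/-- The weighted sum selected by one sparse row. -/
def comb (S : List ℕ) (row : List (ℕ × ℕ)) : ℕ :=
  row.foldr (fun e s => e.2 * S.getD e.1 0 + s) 0

/-- Left multiplication by a sparse matrix. -/
def stepM (g : List (List (ℕ × ℕ))) (S : List ℕ) : List ℕ := g.map fun r => red (comb S r)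

/-- The test that sparse rows stay within the lanes. -/
def rowsOk (g : List (List (ℕ × ℕ))) : Bool :=
  g.length == 78 && g.all fun r => decide ((r.map Prod.snd).sum * 12 ≤ 11232) && r.all fun e => decide (e.1 < 78)

/-- The matrix of sparse rows. -/
def matOf (g : List (List (ℕ × ℕ))) : Matrix (Fin 78) (Fin 78) (ZMod 13) :=
  Matrix.of fun i k =>
    (((g.getD i []).map fun e => if e.1 = (k : ℕ) then e.2 else 0).sum : ℕ)

/-- A list of packed rows represents a matrix. -/
def Rep (S : List ℕ) (M : Matrix (Fin 78) (Fin 78) (ZMod 13)) : Prop :=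
  ∀ i : Fin 78, ∃ w : Fin 78 → ℕ, S.getD i 0 = pk 78 w ∧ (∀ j, w j < 13) ∧ ∀ j, (w j : ZMod 13) = M i j

theorem comb_spec {S : List ℕ} {M : Matrix (Fin 78) (Fin 78) (ZMod 13)} (hS : Rep S M) :
    ∀ (r : List (ℕ × ℕ)), (∀ e ∈ r, e.1 < 78) →
      ∃ w : Fin 78 → ℕ, comb S r = pk 78 w ∧ (∀ j, w j ≤ (r.map Prod.snd).sum * 12) ∧
        ∀ j, (w j : ZMod 13) =
          ∑ k : Fin 78, (((r.map fun e => if e.1 = (k : ℕ) then e.2 else 0).sum : ℕ) : ZMod 13) * M k j
  | [], _ => ⟨fun _ => 0, (pk_zero 78).symm, fun j => by simp, fun j => by simp⟩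
  | e :: r, h => by
    obtain ⟨w, hw, hb, hc⟩ := comb_spec hS r fun e' he' => h e' (List.mem_cons_of_mem _ he')
    obtain ⟨v, hv, hvb, hvc⟩ := hS ⟨e.1, h e List.mem_cons_self⟩
    refine ⟨fun j => e.2 * v j + w j, ?_, fun j => ?_, fun j => ?_⟩
    · show e.2 * S.getD e.1 0 + comb S r = _
      rw [hw, show S.getD e.1 0 = pk 78 v from hv, ← pk_smul, ← pk_add]
      rfl
    · have := hvb j
      have := hb j
      simp only [List.map_cons, List.sum_cons, add_mul]
      have : e.2 * v j ≤ e.2 * 12 := Nat.mul_le_mul_left _ (by omega)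
      omega
    · simp only [List.map_cons, List.sum_cons, Nat.cast_add, Nat.cast_mul, add_mul, Finset.sum_add_distrib]
      rw [hc j, hvc j]
      refine congrArg (· + _) ?_
      refine ((Finset.sum_eq_single (⟨e.1, h e List.mem_cons_self⟩ : Fin 78) ?_ ?_).trans ?_).symm
      rotate_left 2
      · rw [if_pos rfl]
      · intro k _ hk
        rw [if_neg fun he => hk (Fin.ext he.symm), Nat.cast_zero, zero_mul]
      · exact fun hh => absurd (Finset.mem_univ _) hh

theorem step_rep {g : List (List (ℕ × ℕ))} {S : List ℕ} {M : Matrix (Fin 78) (Fin 78) (ZMod 13)}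
    (hg : rowsOk g = true) (hS : Rep S M) : Rep (stepM g S) (matOf g * M) := by
  simp only [rowsOk, Bool.and_eq_true, beq_iff_eq, List.all_eq_true, decide_eq_true_eq] at hg
  intro i
  have hi : (i : ℕ) < g.length := by rw [hg.1]; exact i.isLt
  have hm := hg.2 _ (List.getElem_mem hi)
  obtain ⟨w, hw, hb, hc⟩ := comb_spec hS g[(i : ℕ)] hm.2
  have hle : ∀ j, w j ≤ 11232 := fun j => le_trans (hb j) hm.1
  refine ⟨fun j => w j % 13, ?_, fun j => Nat.mod_lt _ (by norm_num), fun j => ?_⟩
  · rw [stepM, List.getD_eq_getElem _ _ (by simpa using hi), List.getElem_map, hw, red_pk w hle]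
  · rw [ZMod.natCast_mod, hc j, Matrix.mul_apply]
    refine Finset.sum_congr rfl fun k _ => ?_
    rw [matOf, Matrix.of_apply, List.getD_eq_getElem _ _ hi]

/-- The packed identity matrix. -/
def idS : List ℕ := (List.range 78).map fun i => 2 ^ (32 * i)

theorem pk_single : ∀ (n : ℕ) (i : Fin n), pk n (fun j => if j = i then 1 else 0) = 2 ^ (32 * (i : ℕ))
  | n + 1, i => by
    refine Fin.cases ?_ (fun k => ?_) i
    · simp only [pk, if_true]
      rw [show (fun j : Fin n => if j.succ = (0 : Fin (n + 1)) then 1 else 0) = fun _ => 0 from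
        funext fun j => if_neg (Fin.succ_ne_zero j), pk_zero]
      simp
    · simp only [pk, Fin.succ_inj]
      rw [if_neg (Fin.succ_ne_zero k).symm, pk_single n k, Fin.val_succ, mul_add, pow_add]
      ring

theorem idS_get (i : Fin 78) : idS.getD i 0 = pk 78 (fun j => if j = i then 1 else 0) := by
  rw [pk_single, idS, List.getD_eq_getElem _ _ (by simp), List.getElem_map, List.getElem_range]

theorem rep_one : Rep idS 1 := fun i =>
  ⟨_, idS_get i, fun j => by split <;> norm_num, fun j => by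
    rw [Matrix.one_apply]
    by_cases h : j = i
    · subst h; simp
    · rw [if_neg h, if_neg (Ne.symm h), Nat.cast_zero]⟩

theorem rep_eq_one {M : Matrix (Fin 78) (Fin 78) (ZMod 13)} (h : Rep idS M) : M = 1 := by
  ext i j
  obtain ⟨w, hw, hb, hc⟩ := h i
  obtain ⟨v, hv, hvb, hvc⟩ := rep_one i
  have := pk_inj 78 w v (fun k => lt_trans (hb k) (by norm_num)) (fun k => lt_trans (hvb k) (by norm_num))
    (hw.symm.trans hv)
  rw [← hc j, this, hvc j]

/-- Run a word of sparse matrices on the identity. -/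
def runW (l : List (List (List (ℕ × ℕ)))) : List ℕ := l.foldr stepM idS

theorem run_rep : ∀ (l : List (List (List (ℕ × ℕ)))), (∀ g ∈ l, rowsOk g = true) →
    Rep (runW l) (l.map matOf).prod
  | [], _ => by simpa [runW] using rep_one
  | g :: l, h => by
    rw [List.map_cons, List.prod_cons]
    exact step_rep (h g List.mem_cons_self) (run_rep l fun g' hg' => h g' (List.mem_cons_of_mem _ hg'))

theorem prod_eq_one (l : List (List (List (ℕ × ℕ)))) (h : ∀ g ∈ l, rowsOk g = true)
    (he : (runW l == idS) = true) : (l.map matOf).prod = 1 := by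
  have := run_rep l h
  rw [eq_of_beq he] at this
  exact rep_eq_one this

end Cfsg.Agent.FiSeventyEight
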