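import Cfsg.Agent.Lib.FiSeventyEight.Engine
import Cfsg.Agent.Lib.FiSeventyEight.Data
import Cfsg.Prelude.Def_Spor_Fi22

/-!
Certificates for the relations of the nine matrices, and the resulting homomorphism.
-/

set_option autoImplicit false

namespace Cfsg.Agent.FiSeventyEight

open Cfsg Cfsg.Spor

/-- rows of a generator -/
def rowG : Fi22.Gen → List (List (ℕ × ℕ))
  | .a => row_a
  | .b => row_b
  | .c => row_c
  | .d => row_d
  | .e => row_e
  | .f => row_f
  | .g => row_g
  | .h => row_h
  | .i => row_i

theorem rowG_ok : ∀ x, rowsOk (rowG x) = true := by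
  intro x; cases x <;> decide +kernel

set_option maxHeartbeats 4000000 in
theorem check_cox (x y : Fi22.Gen) :
    (runW ((List.replicate (coxLabel Fi22.edges x y) [rowG x, rowG y]).flatten) == idS) = true := by
  cases x <;> cases y <;> decide +kernel

/-- The three long relators as words. -/
def longW : List (List Fi22.Gen × ℕ) :=
  [([.d, .c, .b, .d, .e, .f, .d, .h, .i], 10), ([.a, .b, .c, .d, .e, .f, .h], 9),
   ([.b, .c, .d, .e, .f, .g, .h], 9)]

theorem check_long :
    (longW.all fun p => runW ((List.replicate p.2 (p.1.map rowG)).flatten) == idS) = true := by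
  decide +kernel

/-- The matrix of a generator. -/
noncomputable def gMat (x : Fi22.Gen) : Matrix (Fin 78) (Fin 78) (ZMod 13) := matOf (rowG x)

theorem pow_words (l : List Fi22.Gen) (k : ℕ)
    (h : (runW ((List.replicate k (l.map rowG)).flatten) == idS) = true) :
    ((l.map gMat).prod) ^ k = 1 := by
  have := prod_eq_one _ (fun g hg => by
    obtain ⟨l', hl', hg'⟩ := List.mem_flatten.1 hg
    rw [List.eq_of_mem_replicate hl'] at hg'
    obtain ⟨x, -, rfl⟩ := List.mem_map.1 hg'
    exact rowG_ok x) h
  rw [List.map_flatten, List.prod_flatten, List.map_replicate, List.map_replicate, List.prod_replicate,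
    List.map_map] at this
  exact this

theorem gMat_sq (x : Fi22.Gen) : gMat x * gMat x = 1 := by
  have h := pow_words [x, x] 1 (by
    have := check_cox x x
    rwa [show coxLabel Fi22.edges x x = 1 from if_pos rfl] at this)
  simpa using h

/-- The generators as units. -/
noncomputable def gU (x : Fi22.Gen) : GL (Fin 78) (ZMod 13) := ⟨gMat x, gMat x, gMat_sq x, gMat_sq x⟩

theorem lift_mem : ∀ r ∈ coxRelators Fi22.edges ∪ {r | r ∈ Fi22.extra}, FreeGroup.lift gU r = 1 := by
  intro r hr
  rcases hr with ⟨x, -, y, -, rfl⟩ | hr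
  · have h := pow_words [x, y] (coxLabel Fi22.edges x y) (check_cox x y)
    rw [map_pow, map_mul, FreeGroup.lift_apply_of, FreeGroup.lift_apply_of]
    refine Units.ext ?_
    rw [Units.val_pow_eq_pow_val, Units.val_mul, Units.val_one]
    simpa [gU] using h
  · have hl := List.all_eq_true.1 check_long
    have key : ∀ (l : List Fi22.Gen) (k : ℕ), (l, k) ∈ longW → ((l.map gU).prod) ^ k = 1 := by
      intro l k hm
      refine Units.ext ?_
      rw [Units.val_pow_eq_pow_val, Units.val_one]
      have e : ((l.map gU).prod : GL (Fin 78) (ZMod 13)).val = (l.map gMat).prod := by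
        rw [← Units.coeHom_apply, map_list_prod, List.map_map]
        rfl
      rw [e]
      exact pow_words l k (hl (l, k) hm)
    simp only [Fi22.extra, Set.mem_setOf_eq, List.mem_cons, List.not_mem_nil, or_false] at hr
    rcases hr with rfl | rfl | rfl
    · simpa [mul_assoc] using key [.d, .c, .b, .d, .e, .f, .d, .h, .i] 10 (by simp [longW])
    · simpa [mul_assoc] using key [.a, .b, .c, .d, .e, .f, .h] 9 (by simp [longW])
    · simpa [mul_assoc] using key [.b, .c, .d, .e, .f, .g, .h] 9 (by simp [longW])

/-- The representation of degree seventy-eight. -/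
noncomputable def rep78 : Fi22 →* GL (Fin 78) (ZMod 13) := PresentedGroup.toGroup lift_mem

theorem gMat_a_ne : gMat .a ≠ 1 := by
  intro h
  have : ∀ i, gMat .a i i = (1 : Matrix (Fin 78) (Fin 78) (ZMod 13)) i i := fun i => by rw [h]
  revert this
  simp only [gMat, matOf, Matrix.of_apply, Matrix.one_apply_eq]
  decide +kernel

theorem rep78_injective [IsSimpleGroup Fi22] : Function.Injective rep78 := by
  rw [← MonoidHom.ker_eq_bot_iff]
  refine (Subgroup.Normal.eq_bot_or_eq_top inferInstance).resolve_right fun h => gMat_a_ne ?_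
  have : PresentedGroup.of (rels := coxRelators Fi22.edges ∪ {r | r ∈ Fi22.extra}) Fi22.Gen.a ∈ rep78.ker := by
    rw [h]; trivial
  rw [MonoidHom.mem_ker] at this
  rw [rep78, PresentedGroup.toGroup.of] at this
  exact congrArg Units.val this

end Cfsg.Agent.FiSeventyEight
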